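import Mathlib.Algebra.Module.PID
import Mathlib.Algebra.Polynomial.Module.AEval
import Mathlib.LinearAlgebra.Charpoly.Basic
import Mathlib.LinearAlgebra.Matrix.ToLin
import Mathlib.RingTheory.Ideal.Quotient.Operations
import Mathlib.LinearAlgebra.Matrix.NonsingularInverse
import Mathlib.RingTheory.LocalRing.ResidueField.Basic
import Mathlib.RingTheory.LocalProperties.Basic

/-!
# Regular matrices: cyclic vectors and commutative centralisers
-/

universe u v

namespace GrothLib.RegMat

open Polynomial Module

variable {K : Type u} [Field K] {n : ℕ}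

/-- A matrix whose commutant has dimension `n` has a cyclic vector. -/
theorem exists_cyclic (g : Matrix (Fin n) (Fin n) K)
    (hreg : Module.finrank K (Subalgebra.centralizer K ({g} : Set (Matrix (Fin n) (Fin n) K))) = n) :
    ∃ v : Fin n → K, ∀ w : Fin n → K, ∃ P : K[X], P.natDegree ≤ n ∧ w = (aeval g P).mulVec v ∧
      ∀ i, n ≤ i → P.coeff i = 0 := by
  classical
  let φ : (Fin n → K) →ₗ[K] (Fin n → K) := Matrix.toLin' g
  let M := AEval' φ
  have hCH : aeval φ φ.charpoly = 0 := LinearMap.aeval_self_charpoly φ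
  have htor : Module.IsTorsion K[X] M := by
    intro m
    refine ⟨⟨φ.charpoly, mem_nonZeroDivisors_of_ne_zero (LinearMap.charpoly_monic φ).ne_zero⟩, ?_⟩
    refine (AEval'.of φ).symm.injective ?_
    change (AEval.of K (Fin n → K) φ).symm (φ.charpoly • m) = _
    rw [AEval.of_symm_smul, hCH, zero_smul, map_zero]
  obtain ⟨ι, hι, p, hp, ex, ⟨e₀⟩⟩ := Module.equiv_directSum_of_isTorsion htor
  let q : ι → Ideal K[X] := fun i => K[X] ∙ p i ^ ex i
  let e : M ≃ₗ[K[X]] ((i : ι) → K[X] ⧸ q i) :=
    e₀.trans (DirectSum.linearEquivFunOnFintype K[X] ι fun i => K[X] ⧸ q i)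
  have hne : ∀ i, p i ^ ex i ≠ 0 := fun i => pow_ne_zero _ (hp i).ne_zero
  by_cases hcop : Pairwise (Function.onFun IsCoprime q)
  · let v : Fin n → K := (AEval'.of φ).symm (e.symm fun _ => 1)
    refine ⟨v, fun w => ?_⟩
    obtain ⟨r, hr⟩ := Ideal.pi_quotient_surjective hcop (e (AEval'.of φ w))
    refine ⟨r %ₘ φ.charpoly, ?_, ?_, fun i hi => ?_⟩
    · rcases eq_or_ne (r %ₘ φ.charpoly) 0 with h | h
      · rw [h, natDegree_zero]; exact Nat.zero_le _
      · have := natDegree_lt_natDegree h (degree_modByMonic_lt r (LinearMap.charpoly_monic φ))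
        rw [LinearMap.charpoly_natDegree, Module.finrank_fin_fun] at this
        omega
    · have hw : AEval'.of φ w = r • e.symm fun _ => 1 := by
        rw [← map_smul, LinearEquiv.eq_symm_apply]
        funext i
        rw [← hr i]
        change _ = r • (1 : K[X] ⧸ q i)
        rw [← map_one (Ideal.Quotient.mk (q i))]
        exact (congrArg (Ideal.Quotient.mk (q i)) (mul_one r)).symm
      have h2 : w = aeval φ r v := by
        have h3 := congrArg (AEval.of K (Fin n → K) φ).symm hw
        rw [AEval.of_symm_smul, LinearEquiv.symm_apply_apply] at h3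
        exact h3
      have h4 : aeval φ (r %ₘ φ.charpoly) = aeval φ r := by
        rw [modByMonic_eq_sub_mul_div r φ.charpoly, map_sub, map_mul, hCH, zero_mul, sub_zero]
      have h5 : aeval φ (r %ₘ φ.charpoly) = Matrix.toLin' (aeval g (r %ₘ φ.charpoly)) := by
        change _ = (Matrix.toLinAlgEquiv' : _ ≃ₐ[K] _).toAlgHom (aeval g (r %ₘ φ.charpoly))
        rw [← aeval_algHom_apply]
        rfl
      rw [h2, ← h4, h5, Matrix.toLin'_apply]
    · refine coeff_eq_zero_of_degree_lt (lt_of_lt_of_le (degree_modByMonic_lt r (LinearMap.charpoly_monic φ)) ?_)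
      rw [degree_eq_natDegree (LinearMap.charpoly_monic φ).ne_zero, LinearMap.charpoly_natDegree, Module.finrank_fin_fun]
      exact_mod_cast hi
  · exfalso
    simp only [Pairwise, Function.onFun, not_forall] at hcop
    obtain ⟨i, j, hij, hnc⟩ := hcop
    obtain ⟨d, hd⟩ := (inferInstance : IsPrincipalIdealRing K[X]).principal (q i ⊔ q j)
    rw [Ideal.submodule_span_eq] at hd
    have hdu : ¬ IsUnit d := fun hu => hnc (Ideal.isCoprime_iff_sup_eq.2
      (by rw [hd, Ideal.span_singleton_eq_top]; exact hu))
    obtain ⟨w, hw⟩ : d ∣ p j ^ ex j :=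
      Ideal.mem_span_singleton.1 (hd ▸ Ideal.mem_sup_right (Submodule.mem_span_singleton_self _))
    obtain ⟨w', hw'⟩ : d ∣ p i ^ ex i :=
      Ideal.mem_span_singleton.1 (hd ▸ Ideal.mem_sup_left (Submodule.mem_span_singleton_self _))
    have hwne : Ideal.Quotient.mk (q j) w ≠ 0 := fun h => by
      obtain ⟨c, hc⟩ := Ideal.mem_span_singleton.1 (Ideal.Quotient.eq_zero_iff_mem.1 h)
      have hw0 : w ≠ 0 := fun h0 => hne j (by rw [hw, h0, mul_zero])
      refine hdu (IsUnit.of_mul_eq_one c (mul_left_cancel₀ hw0 ?_))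
      rw [hw] at hc
      linear_combination -hc
    have hle : q i ≤ LinearMap.ker (LinearMap.toSpanSingleton K[X] (K[X] ⧸ q j) (Ideal.Quotient.mk (q j) w)) := by
      rw [Submodule.span_singleton_le_iff_mem, LinearMap.mem_ker, LinearMap.toSpanSingleton_apply]
      change Ideal.Quotient.mk (q j) (p i ^ ex i * w) = 0
      exact Ideal.Quotient.eq_zero_iff_mem.2 (Ideal.mem_span_singleton.2 ⟨w', by rw [hw', hw]; ring⟩)
    let N : ((k : ι) → K[X] ⧸ q k) →ₗ[K[X]] ((k : ι) → K[X] ⧸ q k) :=
      LinearMap.single K[X] (fun k => K[X] ⧸ q k) j ∘ₗ (q i).liftQ _ hle ∘ₗ LinearMap.proj i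
    let ψ : (((k : ι) → K[X] ⧸ q k) × K) →ₗ[K] Module.End K[X] ((k : ι) → K[X] ⧸ q k) :=
      { toFun := fun ct => LinearMap.pi (fun k => LinearMap.mulLeft K[X] (ct.1 k) ∘ₗ LinearMap.proj k) + ct.2 • N
        map_add' := fun a b => by
          ext x k
          simp [add_smul, add_mul]
          ring
        map_smul' := fun c a => by
          ext x k
          simp [mul_smul, smul_add, smul_mul_assoc] }
    have hψ : Function.Injective ψ := by
      rw [injective_iff_map_eq_zero]
      rintro ⟨c, t⟩ h
      have hNi : N (Pi.single i 1) = Pi.single j (Ideal.Quotient.mk (q j) w) := by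
        change (Pi.single j ((q i).liftQ _ hle ((Pi.single i 1 : (k : ι) → K[X] ⧸ q k) i)) : (k : ι) → K[X] ⧸ q k) = _
        rw [Pi.single_eq_same]
        congr 1
        change (1 : K[X]) • Ideal.Quotient.mk (q j) w = _
        rw [one_smul]
      have hc : c = 0 := by
        funext k
        have h1 := congrFun (LinearMap.congr_fun h (Pi.single k 1)) k
        have hN0 : N (Pi.single k 1) k = 0 := by
          rcases eq_or_ne k i with rfl | hk
          · rw [hNi, Pi.single_eq_of_ne hij]
          · change (Pi.single j ((q i).liftQ _ hle ((Pi.single k 1 : (l : ι) → K[X] ⧸ q l) i)) : (l : ι) → K[X] ⧸ q l) k = 0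
            rw [Pi.single_eq_of_ne (Ne.symm hk), map_zero, Pi.single_zero]
            rfl
        simpa [ψ, hN0] using h1
      have ht : t = 0 := by
        by_contra ht
        have h1 := congrFun (LinearMap.congr_fun h (Pi.single i 1)) j
        simp [ψ, hc, hNi, ht] at h1
        exact hwne h1
      rw [hc, ht]
      rfl
    let eK : ((k : ι) → K[X] ⧸ q k) ≃ₗ[K] (Fin n → K) :=
      (e.symm.restrictScalars K).trans (AEval.of K (Fin n → K) φ).symm
    let χ : Module.End K[X] ((k : ι) → K[X] ⧸ q k) →ₗ[K] Matrix (Fin n) (Fin n) K :=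
      { toFun := fun f => LinearMap.toMatrix' (eK.toLinearMap ∘ₗ f.restrictScalars K ∘ₗ eK.symm.toLinearMap)
        map_add' := fun a b => by rw [← map_add]; congr 1; ext x; simp
        map_smul' := fun c a => by rw [← map_smul]; congr 1; ext x; simp }
    have hφe : ∀ x, eK ((X : K[X]) • x) = φ (eK x) := fun x => by
      change (AEval.of K (Fin n → K) φ).symm (e.symm ((X : K[X]) • x)) = _
      rw [map_smul, AEval.of_symm_X_smul]
      rfl
    have hmem : ∀ f, χ f ∈ Subalgebra.centralizer K ({g} : Set (Matrix (Fin n) (Fin n) K)) := by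
      intro f
      rw [Subalgebra.mem_centralizer_iff]
      intro a ha
      rw [Set.mem_singleton_iff.1 ha]
      simp only [χ, LinearMap.coe_mk, AddHom.coe_mk]
      rw [← LinearMap.toMatrix'_toLin' g, ← LinearMap.toMatrix'_comp, ← LinearMap.toMatrix'_comp]
      congr 1
      refine LinearMap.ext fun x => ?_
      change φ (eK (f (eK.symm x))) = eK (f (eK.symm (φ x)))
      rw [← hφe, ← map_smul f]
      congr 2
      rw [LinearEquiv.eq_symm_apply, hφe, LinearEquiv.apply_symm_apply]
    have hχ : Function.Injective χ := fun a b h => by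
      refine LinearMap.ext fun x => eK.injective ?_
      simp only [χ, LinearMap.coe_mk, AddHom.coe_mk] at h
      have := LinearMap.congr_fun (LinearMap.toMatrix'.injective h) (eK x)
      simpa using this
    let Φ := (χ ∘ₗ ψ).codRestrict (Subalgebra.toSubmodule (Subalgebra.centralizer K ({g} : Set (Matrix (Fin n) (Fin n) K)))) fun x => hmem _
    haveI : Module.Finite K ((k : ι) → K[X] ⧸ q k) := Module.Finite.equiv eK.symm
    have hdim := LinearMap.finrank_le_finrank_of_injective (f := Φ)
      (fun a b h => (hχ.comp hψ) (congrArg Subtype.val h))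
    rw [Module.finrank_prod, eK.finrank_eq, Module.finrank_fin_fun, Module.finrank_self] at hdim
    have : Module.finrank K (Subalgebra.toSubmodule (Subalgebra.centralizer K ({g} : Set (Matrix (Fin n) (Fin n) K)))) = n := hreg
    omega

section Local

variable {L : Type v} [CommRing L] [IsLocalRing L]

/-- Over a local ring, the commutant of a matrix regular at the closed point is commutative. -/
theorem commute_of_regular (g : Matrix (Fin n) (Fin n) L)
    (hreg : Module.finrank (IsLocalRing.ResidueField L)
      (Subalgebra.centralizer (IsLocalRing.ResidueField L)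
        ({g.map (IsLocalRing.residue L)} : Set (Matrix (Fin n) (Fin n) (IsLocalRing.ResidueField L)))) = n)
    {x y : Matrix (Fin n) (Fin n) L} (hx : Commute x g) (hy : Commute y g) : Commute x y := by
  classical
  obtain ⟨v₀, hv₀⟩ := exists_cyclic _ hreg
  choose v hv using fun i => IsLocalRing.residue_surjective (R := L) (v₀ i)
  let C : Matrix (Fin n) (Fin n) L := Matrix.of fun a i => ((g ^ (i : ℕ)).mulVec v) a
  have hdet : IsUnit C.det := by
    rw [← IsLocalRing.residue_ne_zero_iff_isUnit, RingHom.map_det, ← isUnit_iff_ne_zero, ← Matrix.isUnit_iff_isUnit_det,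
      ← Matrix.mulVec_surjective_iff_isUnit]
    intro w
    obtain ⟨P, -, rfl, hP⟩ := hv₀ w
    refine ⟨fun i => P.coeff i, ?_⟩
    funext a
    have hC : ∀ i : Fin n, (IsLocalRing.residue L).mapMatrix C a i = ((g.map (IsLocalRing.residue L)) ^ (i : ℕ)).mulVec v₀ a := by
      intro i
      change IsLocalRing.residue L ((g ^ (i : ℕ)).mulVec v a) = _
      rw [RingHom.map_mulVec, Matrix.map_pow]
      congr 1
      · congr 1; funext b; exact hv b
    have hdeg : P.natDegree < n + P.natDegree + 1 := by omega
    rw [Polynomial.aeval_eq_sum_range' hdeg, Matrix.sum_mulVec, Finset.sum_apply]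
    rw [← Finset.sum_subset (Finset.range_subset_range.2 (show n ≤ n + P.natDegree + 1 by omega))
      (fun i _ hi => by rw [hP i (by simpa using hi), zero_smul, Matrix.zero_mulVec]; rfl), Finset.sum_range]
    simp only [Matrix.mulVec, dotProduct, Pi.smul_apply, Matrix.smul_apply] at hC ⊢
    refine Finset.sum_congr rfl fun i _ => ?_
    rw [hC i, Finset.sum_mul]
    refine Finset.sum_congr rfl fun x _ => ?_
    erw [smul_eq_mul]
    ring
  have key : ∀ z : Matrix (Fin n) (Fin n) L, Commute z g →
      z ∈ Algebra.adjoin L ({g} : Set (Matrix (Fin n) (Fin n) L)) := by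
    intro z hz
    let c : Fin n → L := C⁻¹.mulVec (z.mulVec v)
    let P : Matrix (Fin n) (Fin n) L := ∑ i : Fin n, c i • g ^ (i : ℕ)
    have hPg : Commute P g := Commute.sum_left _ _ _ fun i _ => ((Commute.refl g).pow_left _).smul_left _
    have hCc : C.mulVec c = z.mulVec v := by
      simp only [c, Matrix.mulVec_mulVec, Matrix.mul_nonsing_inv_cancel_left C _ hdet]
    have hPv : P.mulVec v = z.mulVec v := by
      rw [← hCc]
      funext a
      simp only [P, Matrix.sum_mulVec, Finset.sum_apply, Matrix.smul_mulVec, Pi.smul_apply, smul_eq_mul]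
      exact Finset.sum_congr rfl fun i _ => mul_comm _ _
    have hcol : z * C = P * C := by
      refine Matrix.ext fun a i => ?_
      have e : ∀ T : Matrix (Fin n) (Fin n) L, (T * C) a i = (T * g ^ (i : ℕ)).mulVec v a := fun T => by
        rw [← Matrix.mulVec_mulVec]; rfl
      rw [e, e, (hz.pow_right _).eq, (hPg.pow_right _).eq, ← Matrix.mulVec_mulVec, ← Matrix.mulVec_mulVec, hPv]
    have hzP : z = P := by
      have := congrArg (· * C⁻¹) hcol
      simpa [Matrix.mul_assoc, Matrix.mul_nonsing_inv C hdet] using this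
    rw [hzP]
    exact Subalgebra.sum_mem _ fun i _ =>
      Subalgebra.smul_mem _ (pow_mem (Algebra.self_mem_adjoin_singleton L g) _) _
  obtain ⟨P, hP⟩ := (Algebra.adjoin_singleton_eq_range_aeval L g).le (key x hx)
  obtain ⟨Q, hQ⟩ := (Algebra.adjoin_singleton_eq_range_aeval L g).le (key y hy)
  rw [← hP, ← hQ]
  exact (Commute.all P Q).map (Polynomial.aeval g).toRingHom

end Local

/-- The commutant of a fiberwise regular matrix is commutative, over any base. -/
theorem commute_of_fiberwise {A B : Type v} [CommRing A] [CommRing B] [Algebra A B]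
    (g : Matrix (Fin n) (Fin n) A)
    (hreg : ∀ (K : Type v) [Field K] (φ : A →+* K),
      Module.finrank K (Subalgebra.centralizer K ({g.map φ} : Set (Matrix (Fin n) (Fin n) K))) = n)
    {x y : Matrix (Fin n) (Fin n) B} (hx : Commute x (g.map (algebraMap A B)))
    (hy : Commute y (g.map (algebraMap A B))) : Commute x y := by
  refine Matrix.ext fun a b => sub_eq_zero.1 <| eq_zero_of_localization _ fun J _ => ?_
  let L := Localization.AtPrime J
  let f : B →+* L := algebraMap B L
  have hr := hreg (IsLocalRing.ResidueField L) ((IsLocalRing.residue L).comp (f.comp (algebraMap A B)))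
  have he : g.map ((IsLocalRing.residue L).comp (f.comp (algebraMap A B))) =
      ((g.map (algebraMap A B)).map f).map (IsLocalRing.residue L) := by
    simp only [Matrix.map_map]; rfl
  rw [he] at hr
  have h := commute_of_regular _ hr (hx.map f.mapMatrix) (hy.map f.mapMatrix)
  have h2 := congrFun (congrFun h.eq a) b
  rw [← map_mul, ← map_mul] at h2
  rw [map_sub, sub_eq_zero]
  exact h2

end GrothLib.RegMat
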