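import Groth.Agent.Lib.RegMat.Cyclic
import Mathlib.RingTheory.Flat.Basic
import Mathlib.RingTheory.Flat.Stability
import Mathlib.RingTheory.Localization.Integer
import Mathlib.RingTheory.MvPolynomial.Basic
import Mathlib.Data.Matrix.ColumnRowPartitioned

/-!
# The commutation map of a regular matrix is von Neumann regular
-/

universe u v

namespace GrothLib.RegMat

open Polynomial

variable {n : ℕ} {R S : Type v} [CommRing R] [CommRing S]

/-- The matrix of `z ↦ z g - g z`. -/
def adM (g : Matrix (Fin n) (Fin n) R) : Matrix (Fin n × Fin n) (Fin n × Fin n) R :=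
  Matrix.of fun p q => (if p.1 = q.1 then g q.2 p.2 else 0) - (if p.2 = q.2 then g p.1 q.1 else 0)

theorem adM_mulVec (g : Matrix (Fin n) (Fin n) R) (x : Fin n × Fin n → R) (p : Fin n × Fin n) :
    (adM g).mulVec x p = (Matrix.of (fun a b => x (a, b)) * g - g * Matrix.of (fun a b => x (a, b))) p.1 p.2 := by
  simp [adM, Matrix.mulVec, dotProduct, Fintype.sum_prod_type, Matrix.mul_apply, sub_mul, ite_mul,
    Finset.sum_sub_distrib, mul_comm]

theorem adM_map (g : Matrix (Fin n) (Fin n) R) (f : R →+* S) : adM (g.map f) = (adM g).map f := by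
  refine Matrix.ext fun p q => ?_
  simp [adM, apply_ite f]

/-- The matrix of `z ↦ z v`. -/
def evM (v : Fin n → R) : Matrix (Fin n) (Fin n × Fin n) R :=
  Matrix.of fun a q => if a = q.1 then v q.2 else 0

theorem evM_mulVec (v : Fin n → R) (x : Fin n × Fin n → R) :
    (evM v).mulVec x = (Matrix.of fun a b => x (a, b)).mulVec v := by
  funext a
  simp [evM, Matrix.mulVec, dotProduct, Fintype.sum_prod_type, ite_mul, mul_comm]

theorem evM_map (v : Fin n → R) (f : R →+* S) : evM (f ∘ v) = (evM v).map f := by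
  refine Matrix.ext fun p q => ?_
  simp [evM, apply_ite f]

variable {L : Type v} [CommRing L] [IsLocalRing L]

theorem exists_reg_local (g : Matrix (Fin n) (Fin n) L)
    (hreg : Module.finrank (IsLocalRing.ResidueField L)
      (Subalgebra.centralizer (IsLocalRing.ResidueField L)
        ({g.map (IsLocalRing.residue L)} : Set (Matrix (Fin n) (Fin n) (IsLocalRing.ResidueField L)))) = n) :
    ∃ D, adM g * D * adM g = adM g := by
  classical
  let r := IsLocalRing.residue L
  obtain ⟨v₀, hv₀⟩ := exists_cyclic _ hreg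
  choose v hv using fun i => IsLocalRing.residue_surjective (R := L) (v₀ i)
  have hrv : r ∘ v = v₀ := funext hv
  -- the columns `g ^ i v` span modulo the maximal ideal
  let C : Matrix (Fin n) (Fin n) L := Matrix.of fun a i => ((g ^ (i : ℕ)).mulVec v) a
  have hcol : ∀ i : Fin n, (fun a => (r.mapMatrix C) a i) = ((g.map r) ^ (i : ℕ)).mulVec v₀ := by
    intro i
    funext a
    change r ((g ^ (i : ℕ)).mulVec v a) = _
    rw [RingHom.map_mulVec, Matrix.map_pow, ← hrv]
  have hdet : IsUnit C.det := by
    rw [← IsLocalRing.residue_ne_zero_iff_isUnit, RingHom.map_det, ← isUnit_iff_ne_zero,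
      ← Matrix.isUnit_iff_isUnit_det, ← Matrix.mulVec_surjective_iff_isUnit]
    intro w
    obtain ⟨P, -, rfl, hP⟩ := hv₀ w
    refine ⟨fun i => P.coeff i, ?_⟩
    rw [Polynomial.aeval_eq_sum_range' (show P.natDegree < n + P.natDegree + 1 by omega),
      ← Finset.sum_subset (Finset.range_subset_range.2 (show n ≤ n + P.natDegree + 1 by omega))
      (fun i _ hi => by rw [hP i (by simpa using hi), zero_smul]), Finset.sum_range, Matrix.sum_mulVec,
      Matrix.mulVec_eq_sum]
    refine Finset.sum_congr rfl fun i _ => ?_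
    rw [Matrix.smul_mulVec, ← hcol i]
    funext a
    simp [mul_comm, r]
  -- the section
  let Sg : Matrix (Fin n × Fin n) (Fin n) L :=
    Matrix.of fun q i => ∑ j : Fin n, C⁻¹ j i * (g ^ (j : ℕ)) q.1 q.2
  have hSg : ∀ w, (fun a b => Sg.mulVec w (a, b)) = fun a b =>
      (∑ j : Fin n, (C⁻¹.mulVec w) j • g ^ (j : ℕ)) a b := by
    intro w
    funext a b
    simp only [Sg, Matrix.mulVec, dotProduct, Matrix.of_apply, Matrix.sum_apply, Matrix.smul_apply, smul_eq_mul,
      Finset.sum_mul]
    rw [Finset.sum_comm]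
    exact Finset.sum_congr rfl fun j _ => Finset.sum_congr rfl fun i _ => by ring
  have hAS : adM g * Sg = 0 := by
    refine Matrix.ext_of_mulVec_single fun i => ?_
    funext p
    rw [← Matrix.mulVec_mulVec, adM_mulVec]
    simp only [hSg]
    have hc : Commute (∑ j : Fin n, (C⁻¹.mulVec (Pi.single i 1)) j • g ^ (j : ℕ)) g :=
      Commute.sum_left _ _ _ fun j _ => ((Commute.refl g).pow_left _).smul_left _
    rw [show (Matrix.of fun a b => (∑ j : Fin n, (C⁻¹.mulVec (Pi.single i 1)) j • g ^ (j : ℕ)) a b) =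
      ∑ j : Fin n, (C⁻¹.mulVec (Pi.single i 1)) j • g ^ (j : ℕ) from rfl, hc.eq, sub_self]
    simp
  have hES : evM v * Sg = 1 := by
    refine Matrix.ext_of_mulVec_single fun i => ?_
    rw [← Matrix.mulVec_mulVec, evM_mulVec]
    simp only [hSg]
    change (∑ j : Fin n, (C⁻¹.mulVec (Pi.single i 1)) j • g ^ (j : ℕ)).mulVec v = _
    have h1 : ∀ c : Fin n → L, (∑ j : Fin n, c j • g ^ (j : ℕ)).mulVec v = C.mulVec c := by
      intro c
      funext a
      simp only [Matrix.sum_mulVec, Finset.sum_apply, Matrix.smul_mulVec, Pi.smul_apply, smul_eq_mul]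
      exact Finset.sum_congr rfl fun j _ => mul_comm _ _
    rw [h1, Matrix.mulVec_mulVec, Matrix.mul_nonsing_inv C hdet]
  -- a left inverse of `(ad g, ev v)`
  let F : Matrix ((Fin n × Fin n) ⊕ Fin n) (Fin n × Fin n) L := Matrix.fromRows (adM g) (evM v)
  have hinj : Function.Injective (F.map r).mulVecLin := by
    rw [injective_iff_map_eq_zero]
    intro x hx
    let z : Matrix (Fin n) (Fin n) (IsLocalRing.ResidueField L) := Matrix.of fun a b => x (a, b)
    rw [Matrix.mulVecLin_apply] at hx
    have hxz : Commute z (g.map r) := by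
      refine Matrix.ext fun a b => sub_eq_zero.1 ?_
      have h := congrFun hx (Sum.inl (a, b))
      have h2 : (adM (g.map r)).mulVec x (a, b) = 0 := by
        rw [adM_map]; exact h
      rw [adM_mulVec] at h2
      exact h2
    have hzv : z.mulVec v₀ = 0 := by
      rw [← evM_mulVec, ← hrv, evM_map]
      funext a
      exact congrFun hx (Sum.inr a)
    have hz : z = 0 := by
      refine Matrix.ext_of_mulVec_single fun i => ?_
      rw [Matrix.zero_mulVec]
      obtain ⟨P, -, hP, -⟩ := hv₀ (Pi.single i 1)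
      have hc : Commute z (aeval (g.map r) P) := by
        clear hP
        induction P using Polynomial.induction_on' with
        | add p q hp hq => rw [map_add]; exact hp.add_right hq
        | monomial k a => rw [aeval_monomial]; exact (Algebra.commute_algebraMap_right a z).mul_right (hxz.pow_right k)
      rw [hP, Matrix.mulVec_mulVec, hc.eq, ← Matrix.mulVec_mulVec, hzv, Matrix.mulVec_zero]
    funext q
    exact congrFun (congrFun hz q.1) q.2
  obtain ⟨G₀, hG₀⟩ := LinearMap.exists_leftInverse_of_injective _ (LinearMap.ker_eq_bot.2 hinj)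
  choose G hG using fun i j => IsLocalRing.residue_surjective (R := L) (LinearMap.toMatrix' G₀ i j)
  have hGF : IsUnit (Matrix.of G * F).det := by
    rw [← IsLocalRing.residue_ne_zero_iff_isUnit, RingHom.map_det, RingHom.mapMatrix_apply, Matrix.map_mul]
    have h1 : (Matrix.of G).map r = LinearMap.toMatrix' G₀ := Matrix.ext hG
    have h2 : LinearMap.toMatrix' (F.map r).mulVecLin = F.map r := LinearMap.toMatrix'_toLin' _
    rw [h1]
    have h3 := congrArg LinearMap.toMatrix' hG₀
    rw [LinearMap.toMatrix'_comp, h2, LinearMap.toMatrix'_id] at h3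
    rw [h3, Matrix.det_one]
    exact one_ne_zero
  let Ψ := (Matrix.of G * F)⁻¹ * Matrix.of G
  refine ⟨Ψ.toCols₁, ?_⟩
  have hΨ : Ψ.toCols₁ * adM g + Ψ.toCols₂ * evM v = 1 := by
    rw [← Matrix.fromCols_mul_fromRows, Matrix.fromCols_toCols]
    change Ψ * F = 1
    rw [Matrix.mul_assoc, Matrix.nonsing_inv_mul _ hGF]
  have hEP : evM v * (1 - Sg * evM v) = 0 := by
    rw [Matrix.mul_sub, Matrix.mul_one, ← Matrix.mul_assoc, hES, Matrix.one_mul, sub_self]
  have hAP : adM g * (1 - Sg * evM v) = adM g := by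
    rw [Matrix.mul_sub, Matrix.mul_one, ← Matrix.mul_assoc, hAS, Matrix.zero_mul, sub_zero]
  calc adM g * Ψ.toCols₁ * adM g = adM g * Ψ.toCols₁ * (adM g * (1 - Sg * evM v)) := by rw [hAP]
    _ = adM g * ((Ψ.toCols₁ * adM g) * (1 - Sg * evM v)) := by simp only [Matrix.mul_assoc]
    _ = adM g := by
      rw [eq_sub_of_add_eq hΨ, Matrix.sub_mul, Matrix.mul_assoc, hEP, Matrix.mul_zero, sub_zero,
        Matrix.one_mul, hAP]

omit [IsLocalRing L] in
/-- Von Neumann regularity of a matrix is local. -/
theorem exists_reg_of_local {N : Type*} [Fintype N] [DecidableEq N] (T : Matrix N N R)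
    (h : ∀ (J : Ideal R) [J.IsMaximal], ∃ X, T.map (algebraMap R (Localization.AtPrime J)) * X *
      T.map (algebraMap R (Localization.AtPrime J)) = T.map (algebraMap R (Localization.AtPrime J))) :
    ∃ D, T * D * T = T := by
  let I : Ideal R :=
    { carrier := {a | ∃ X, T * X * T = a • T}
      add_mem' := by
        rintro a b ⟨X, hX⟩ ⟨Y, hY⟩
        exact ⟨X + Y, by rw [Matrix.mul_add, Matrix.add_mul, hX, hY, add_smul]⟩
      zero_mem' := ⟨0, by simp⟩
      smul_mem' := by
        rintro c a ⟨X, hX⟩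
        exact ⟨c • X, by rw [Matrix.mul_smul, Matrix.smul_mul, hX, smul_eq_mul, mul_smul]⟩ }
  suffices hI : I = ⊤ by
    obtain ⟨X, hX⟩ : (1 : R) ∈ I := hI ▸ Submodule.mem_top
    exact ⟨X, by rw [hX, one_smul]⟩
  by_contra hne
  obtain ⟨J, hJ, hIJ⟩ := Ideal.exists_le_maximal I hne
  obtain ⟨X, hX⟩ := h J
  obtain ⟨s, hs⟩ := IsLocalization.exist_integer_multiples_of_finite J.primeCompl (fun p : N × N => X p.1 p.2)
  choose X₀ hX₀ using hs
  let X₁ : Matrix N N R := Matrix.of fun a b => X₀ (a, b)
  let f := algebraMap R (Localization.AtPrime J)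
  have hmap : X₁.map f = (s : R) • X := Matrix.ext fun a b => hX₀ (a, b)
  have heq : ∀ p : N × N, ∃ t : J.primeCompl,
      (t : R) * (T * X₁ * T) p.1 p.2 = (t : R) * ((s : R) • T) p.1 p.2 := by
    intro p
    refine IsLocalization.exists_of_eq (S := Localization.AtPrime J) ?_
    have h1 : (T * X₁ * T).map f = ((s : R) • T).map f := by
      rw [Matrix.map_mul, Matrix.map_mul, hmap, Matrix.mul_smul, Matrix.smul_mul, hX,
        Matrix.map_smul' _ _ _ (map_mul f)]
      refine Matrix.ext fun a b => ?_
      simp [f, Algebra.smul_def, Matrix.smul_apply]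
    exact congrFun (congrFun h1 p.1) p.2
  choose t ht using heq
  have hmem : (((∏ p, t p) * s : J.primeCompl) : R) ∈ I := by
    refine ⟨((∏ p, t p : J.primeCompl) : R) • X₁, ?_⟩
    rw [Matrix.mul_smul, Matrix.smul_mul, Submonoid.coe_mul, mul_smul]
    refine Matrix.ext fun a b => ?_
    simp only [Matrix.smul_apply, smul_eq_mul]
    obtain ⟨c, hc⟩ := Finset.dvd_prod_of_mem t (Finset.mem_univ (a, b))
    rw [hc, Submonoid.coe_mul, mul_right_comm, ht (a, b), Matrix.smul_apply, smul_eq_mul]
    ring
  exact ((∏ p, t p) * s).2 (hIJ hmem)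

omit [IsLocalRing L] in
theorem exists_reg_of_fiberwise (g : Matrix (Fin n) (Fin n) R)
    (hreg : ∀ (K : Type v) [Field K] (φ : R →+* K),
      Module.finrank K (Subalgebra.centralizer K ({g.map φ} : Set (Matrix (Fin n) (Fin n) K))) = n) :
    ∃ D, adM g * D * adM g = adM g := by
  refine exists_reg_of_local _ fun J _ => ?_
  rw [← adM_map]
  refine exists_reg_local _ ?_
  rw [show (g.map (algebraMap R (Localization.AtPrime J))).map (IsLocalRing.residue _) =
    g.map ((IsLocalRing.residue _).comp (algebraMap R (Localization.AtPrime J))) by rw [Matrix.map_map]; rfl]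
  exact hreg _ _

end GrothLib.RegMat

namespace GrothLib.RegMat

open MvPolynomial in
/-- The quotient of a polynomial ring by a von Neumann regular system of linear forms is flat. -/
theorem flat_quotient_linear {A : Type v} [CommRing A] {N : Type} [Fintype N] [DecidableEq N]
    (T D : Matrix N N A) (hD : T * D * T = T) :
    Module.Flat A (MvPolynomial N A ⧸ Ideal.span (Set.range fun p : N => ∑ q, T p q • (X q : MvPolynomial N A))) := by
  let rel : N → MvPolynomial N A := fun p => ∑ q, T p q • X q
  let e : Matrix N N A := 1 - D * T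
  let θ : MvPolynomial N A →ₐ[A] MvPolynomial N A := aeval fun q => ∑ r, e q r • X r
  let J := Ideal.span (Set.range rel)
  have hrel : ∀ a : Matrix N N A, ∀ p, ∑ q, a p q • rel q = ∑ r, (a * T) p r • (X r : MvPolynomial N A) := by
    intro a p
    simp only [rel, Finset.smul_sum, smul_smul, Matrix.mul_apply, Finset.sum_smul]
    exact Finset.sum_comm
  have hθ : ∀ f ∈ J, θ f = 0 := by
    intro f hf
    refine (Ideal.span_le (I := RingHom.ker θ.toRingHom)).2 ?_ hf
    rintro - ⟨p, rfl⟩
    change θ (rel p) = 0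
    have h : θ (rel p) = ∑ r, (T * e) p r • (X r : MvPolynomial N A) := by
      simp only [rel, map_sum, map_smul, θ, aeval_X, Finset.smul_sum, smul_smul, Matrix.mul_apply, Finset.sum_smul]
      exact Finset.sum_comm
    rw [h, show T * e = 0 by rw [Matrix.mul_sub, Matrix.mul_one, ← Matrix.mul_assoc, hD, sub_self]]
    simp
  refine Module.Flat.of_retract (i := (Ideal.Quotient.liftₐ J θ hθ).toLinearMap)
    (r := (Ideal.Quotient.mkₐ A J).toLinearMap) ?_
  have key : (Ideal.Quotient.mkₐ A J).comp θ = Ideal.Quotient.mkₐ A J := by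
    refine MvPolynomial.algHom_ext fun q => ?_
    rw [AlgHom.comp_apply, aeval_X, Ideal.Quotient.mkₐ_eq_mk, Ideal.Quotient.mk_eq_mk_iff_sub_mem]
    have h : (∑ r, e q r • (X r : MvPolynomial N A)) - X q = -∑ p, D q p • rel p := by
      rw [hrel]
      simp only [e, Matrix.sub_apply, sub_smul, Finset.sum_sub_distrib, Matrix.one_apply, ite_smul, one_smul,
        zero_smul, Finset.sum_ite_eq, Finset.mem_univ, if_true]
      ring
    rw [h]
    exact neg_mem (Ideal.sum_mem _ fun p _ => Submodule.smul_of_tower_mem J _ (Ideal.subset_span ⟨p, rfl⟩))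
  refine LinearMap.ext fun x => ?_
  obtain ⟨f, rfl⟩ := Ideal.Quotient.mk_surjective x
  exact AlgHom.congr_fun key f

end GrothLib.RegMat
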